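import Groth.Agent.H06UOSect.Basic
import Groth.Agent.H7Lim.Approx.Eventually

/-! Finite surjective base change giving local sections of universally open morphisms. -/

set_option autoImplicit false
set_option backward.isDefEq.respectTransparency false
set_option linter.style.haveILetI false
universe u
open CategoryTheory CategoryTheory.Limits AlgebraicGeometry TopologicalSpace Opposite

namespace Groth.Agent.H06UOSect

theorem exists_stage {I : Type u} [Category.{u} I] [IsCofiltered I] {D : I ⥤ Scheme.{u}} {c : Cone D}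
    (hc : IsLimit c) {S X : Scheme.{u}} (t : D ⟶ (Functor.const I).obj S) (f : X ⟶ S)
    [LocallyOfFinitePresentation f] [∀ {i j} (a : i ⟶ j), IsAffineHom (D.map a)]
    [∀ i, IsNoetherian (D.obj i)] {i : I} (V : (D.obj i).Opens)
    (g : (c.π.app i ⁻¹ᵁ V).toScheme ⟶ X)
    (hg : g ≫ f = (c.π.app i ⁻¹ᵁ V).ι ≫ c.π.app i ≫ t.app i) :
    ∃ (j : I) (a : j ⟶ i) (g' : (D.map a ⁻¹ᵁ V).toScheme ⟶ X),
      g' ≫ f = (D.map a ⁻¹ᵁ V).ι ≫ t.app j := by
  let t' : opensDiagram D i V ⟶ (Functor.const (Over i)).obj S :=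
    { app := fun k => (D.map k.hom ⁻¹ᵁ V).ι ≫ t.app k.left
      naturality := fun k l a => by
        have h := t.naturality a.left
        simp only [Functor.const_obj_obj, Functor.const_obj_map, Category.comp_id] at h ⊢
        rw [opensDiagram_map, Scheme.Hom.resLE_comp_ι_assoc, h] }
  haveI : ∀ k : Over i, CompactSpace ((opensDiagram D i V).obj k) := fun k =>
    isCompact_iff_compactSpace.mp (TopologicalSpace.NoetherianSpace.isCompact _)
  haveI : ∀ k : Over i, QuasiSeparatedSpace ((opensDiagram D i V).obj k) := fun k => by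
    haveI : IsLocallyNoetherian ((opensDiagram D i V).obj k) :=
      LocallyOfFiniteType.isLocallyNoetherian (D.map k.hom ⁻¹ᵁ V).ι
    infer_instance
  obtain ⟨k, g', -, hg'⟩ := Scheme.exists_π_app_comp_eq_of_locallyOfFinitePresentation _ t' f
    (opensCone D c i V) (isLimitOpensCone D c hc i V) g (by
      ext k
      have hk : c.π.app k.left ≫ t.app k.left = c.π.app i ≫ t.app i := by
        have h := t.naturality k.hom
        simp only [Functor.const_obj_obj, Functor.const_obj_map, Category.comp_id] at h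
        rw [← h, ← Category.assoc, c.w]
      simp only [NatTrans.comp_app, opensCone_π_app, Functor.const_map_app]
      show _ ≫ (D.map k.hom ⁻¹ᵁ V).ι ≫ t.app k.left = g ≫ f
      rw [Scheme.Hom.resLE_comp_ι_assoc, hk, hg])
  exact ⟨k.left, k.hom, g', hg'⟩

theorem exists_finite_surjective {X Y : Scheme.{u}} [IsNoetherian Y] (f : X ⟶ Y)
    [UniversallyOpen f] [Surjective f] [LocallyOfFiniteType f] :
    ∃ (Y' : Scheme.{u}) (g : Y' ⟶ Y), IsFinite g ∧ Surjective g ∧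
      ∀ y' : Y', ∃ U : Y'.Opens, y' ∈ U ∧
        ∃ s : (↑U : Scheme.{u}) ⟶ pullback f g, s ≫ pullback.snd f g = U.ι := by
  classical
  haveI := H7Flat.isIntegralHom_aicProj Y
  obtain ⟨I, _, _, _, D, c, hc, hfin, ⟨e⟩⟩ :=
    H7Lim.Approx.exists_finite_fp_system (H7Flat.aicProj Y)
  obtain ⟨hc'⟩ := H7Lim.Approx.nonempty_isLimit_forget hc
  let D' := D ⋙ Over.forget Y
  let c' := (Over.forget Y).mapCone c
  let t : D' ⟶ (Functor.const Iᵒᵖ).obj Y :=
    { app := fun i => (D.obj i).hom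
      naturality := fun i j a => by simp [D', Over.w (D.map a)] }
  haveI : ∀ i, IsFinite (D.obj i).hom := fun i => (hfin i).1
  haveI : ∀ {i j} (a : i ⟶ j), IsAffineHom (D'.map a) := fun {i j} a => by
    haveI : IsAffineHom ((D.map a).left ≫ (D.obj j).hom) := by rw [Over.w (D.map a)]; infer_instance
    exact MorphismProperty.of_postcomp @IsAffineHom (D.map a).left (D.obj j).hom
      (show IsSeparated (D.obj j).hom from inferInstance) ‹_›
  haveI : ∀ i, IsNoetherian (D'.obj i) := fun i => by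
    haveI : IsLocallyNoetherian (D.obj i).left :=
      LocallyOfFiniteType.isLocallyNoetherian (D.obj i).hom
    haveI : CompactSpace (D.obj i).left := QuasiCompact.compactSpace_of_compactSpace (D.obj i).hom
    haveI : IsLocallyNoetherian (D'.obj i) := ‹IsLocallyNoetherian (D.obj i).left›
    haveI : CompactSpace (D'.obj i) := ‹CompactSpace (D.obj i).left›
    exact ⟨⟩
  haveI : CompactSpace c'.pt := Scheme.compactSpace_of_isLimit D' c' hc'
  let φ : c'.pt ⟶ H7Flat.aicScheme Y := e.hom.left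
  have hφ : φ ≫ H7Flat.aicProj Y = c.pt.hom := Over.w e.hom
  -- local data at a stage
  have h1 : ∀ x : c'.pt, ∃ (i : Iᵒᵖ) (V : (D'.obj i).Opens), x ∈ c'.π.app i ⁻¹ᵁ V ∧
      ∃ g : (V : Scheme.{u}) ⟶ X, g ≫ f = V.ι ≫ t.app i := by
    intro x
    obtain ⟨U, hU, g, hg⟩ := exists_local_section_aic f (φ x)
    obtain ⟨W, hW, hxW, hWU⟩ := exists_isAffineOpen_mem_and_subset (x := x) (U := φ ⁻¹ᵁ U) hU
    obtain ⟨i, V, -, hV⟩ := exists_preimage_eq D' c' hc' W hW.isCompact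
    have hVU : c'.π.app i ⁻¹ᵁ V ≤ φ ⁻¹ᵁ U := hV.le.trans hWU
    obtain ⟨j, a, g', hg'⟩ := exists_stage hc' t f V (φ.resLE U _ hVU ≫ g) (by
      rw [Category.assoc, hg, Scheme.Hom.resLE_comp_ι_assoc, hφ]
      exact congrArg ((c'.π.app i ⁻¹ᵁ V).ι ≫ ·) (Over.w (c.π.app i)).symm)
    refine ⟨j, D'.map a ⁻¹ᵁ V, ?_, g', hg'⟩
    rw [← Scheme.Hom.comp_preimage, c'.w, hV]
    exact hxW
  choose i V hxV g hg using h1
  obtain ⟨s, hs⟩ := isCompact_univ.elim_finite_subcover
    (fun x => ((c'.π.app (i x) ⁻¹ᵁ V x : c'.pt.Opens) : Set c'.pt)) (fun x => (c'.π.app (i x) ⁻¹ᵁ V x).2)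
    (fun x _ => Set.mem_iUnion.2 ⟨x, hxV x⟩)
  obtain ⟨k, hk⟩ := IsCofiltered.inf_objs_exists (s.image i)
  have hk' : ∀ x : s, Nonempty (k ⟶ i x) := fun x => hk (Finset.mem_image_of_mem i x.2)
  let a : ∀ x : s, k ⟶ i x := fun x => (hk' x).some
  let U : (D'.obj k).Opens := ⨆ x : s, D'.map (a x) ⁻¹ᵁ V x
  have hU : c'.π.app k ⁻¹ᵁ U = ⊤ := by
    refine top_le_iff.1 fun y _ => ?_
    obtain ⟨x, hx, hyx⟩ := Set.mem_iUnion₂.1 (hs (Set.mem_univ y))
    show c'.π.app k y ∈ U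
    refine Opens.mem_iSup.2 ⟨⟨x, hx⟩, ?_⟩
    show (c'.π.app k ≫ D'.map (a ⟨x, hx⟩)) y ∈ V x
    rw [c'.w]
    exact hyx
  obtain ⟨l, b, hb⟩ := exists_map_eq_top D' c' hc' U hU
  refine ⟨D'.obj l, t.app l, inferInstanceAs (IsFinite (D.obj l).hom), ⟨fun y => ?_⟩, fun y => ?_⟩
  · obtain ⟨z, rfl⟩ := H7Flat.surjective_aicProj Y y
    refine ⟨c'.π.app l (e.inv.left z), ?_⟩
    show ((e.inv ≫ c.π.app l).left ≫ (D.obj l).hom) z = _
    rw [Over.w (e.inv ≫ c.π.app l)]
    rfl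
  · have hy : y ∈ D'.map b ⁻¹ᵁ U := hb.ge trivial
    obtain ⟨x, hx⟩ := Opens.mem_iSup.1 (show D'.map b y ∈ U from hy)
    have hx' : y ∈ D'.map (b ≫ a x) ⁻¹ᵁ V x := by
      rw [D'.map_comp, Scheme.Hom.comp_preimage]
      exact hx
    refine ⟨D'.map (b ≫ a x) ⁻¹ᵁ V x, hx', pullback.lift ((D'.map (b ≫ a x)).resLE _ _ le_rfl ≫ g x)
      (D'.map (b ≫ a x) ⁻¹ᵁ V x).ι ?_, pullback.lift_snd ..⟩
    rw [Category.assoc, hg, Scheme.Hom.resLE_comp_ι_assoc, t.naturality]
    simp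

end Groth.Agent.H06UOSect
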