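import Groth.Agent.H06UOSect.Main
import Groth.Agent.LeadAff.Chevalley

/-! Affineness descends along universally open surjective morphisms of finite type. -/

set_option autoImplicit false
set_option backward.isDefEq.respectTransparency false
set_option linter.style.haveILetI false
universe u
open CategoryTheory CategoryTheory.Limits AlgebraicGeometry TopologicalSpace

namespace Groth.Agent.H06UOSect

theorem isPullback_of_factor {X Y Y' T : Scheme.{u}} (f : X ⟶ Y) (g : Y' ⟶ Y) (a : T ⟶ Y)
    (b : T ⟶ Y') (w : b ≫ g = a) :
    ∃ m : pullback f a ⟶ pullback f g,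
      IsPullback m (pullback.snd f a) (pullback.snd f g) b := by
  refine ⟨pullback.lift (pullback.fst f a) (pullback.snd f a ≫ b) ?_, ?_⟩
  · rw [Category.assoc, w, pullback.condition]
  · refine IsPullback.of_right ?_ (pullback.lift_snd _ _ _) (IsPullback.of_hasPullback f g)
    rw [pullback.lift_fst, w]
    exact IsPullback.of_hasPullback f a

theorem isAffine_of_baseChange {X Y Y' : Scheme.{u}} [IsNoetherian Y] [IsAffine Y] (f : X ⟶ Y)
    [LocallyOfFiniteType f] (g : Y' ⟶ Y) [LocallyOfFiniteType g] [UniversallyOpen g] [Surjective g]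
    [IsAffineHom (pullback.snd f g)] : IsAffine X := by
  obtain ⟨Z, h, hfin, hsurj, hloc⟩ := exists_finite_surjective g
  haveI := hfin; haveI := hsurj
  haveI : IsAffine Z := isAffine_of_isAffineHom h
  choose U hU s hs using hloc
  haveI : IsAffineHom (pullback.snd f h) := by
    rw [IsZariskiLocalAtTarget.iff_of_iSup_eq_top (P := @IsAffineHom) U
      (eq_top_iff.2 fun z _ => Opens.mem_iSup.2 ⟨z, hU z⟩)]
    intro z
    obtain ⟨m, hm⟩ := isPullback_of_factor f g ((U z).ι ≫ h) (s z ≫ pullback.fst g h) (by
      rw [Category.assoc, pullback.condition, ← Category.assoc, hs])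
    haveI : IsAffineHom (pullback.snd f ((U z).ι ≫ h)) :=
      MorphismProperty.of_isPullback hm inferInstance
    obtain ⟨m', hm'⟩ := isPullback_of_factor f h ((U z).ι ≫ h) (U z).ι rfl
    let e := hm'.isoIsPullback _ _ (isPullback_morphismRestrict (pullback.snd f h) (U z)).flip
    have he : e.hom ≫ (pullback.snd f h ∣_ U z) = pullback.snd f ((U z).ι ≫ h) :=
      IsPullback.isoIsPullback_hom_snd ..
    exact (MorphismProperty.cancel_left_of_respectsIso @IsAffineHom e.hom _).1 (by rw [he]; infer_instance)
  haveI : IsAffine (pullback f h) := isAffine_of_isAffineHom (pullback.snd f h)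
  haveI : IsFinite (pullback.fst f h) := MorphismProperty.pullback_fst _ _ hfin
  haveI : Surjective (pullback.fst f h) := MorphismProperty.pullback_fst _ _ hsurj
  haveI : CompactSpace X := (pullback.fst f h).surjective.compactSpace (pullback.fst f h).continuous
  haveI : IsLocallyNoetherian X := LocallyOfFiniteType.isLocallyNoetherian f
  haveI : IsNoetherian X := ⟨⟩
  exact LeadAff.isAffine_of_finite_surjective (pullback.fst f h)

theorem isAffineHom_of_baseChange {X Y Y' : Scheme.{u}} [IsLocallyNoetherian Y]
    (f : X ⟶ Y) [LocallyOfFiniteType f] (g : Y' ⟶ Y) [LocallyOfFiniteType g] [UniversallyOpen g]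
    [Surjective g] [IsAffineHom (pullback.snd f g)] : IsAffineHom f := by
  refine ⟨fun V hV => ?_⟩
  haveI : IsAffine V.toScheme := hV
  haveI : IsLocallyNoetherian V.toScheme := LocallyOfFiniteType.isLocallyNoetherian V.ι
  haveI : IsNoetherian V.toScheme := ⟨⟩
  let g' := pullback.snd g V.ι
  haveI : LocallyOfFiniteType g' := MorphismProperty.pullback_snd _ _ inferInstance
  haveI : UniversallyOpen g' := MorphismProperty.pullback_snd _ _ inferInstance
  haveI : Surjective g' := MorphismProperty.pullback_snd _ _ inferInstance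
  haveI : IsAffineHom (pullback.snd (f ∣_ V) g') := by
    have h1 : IsPullback (pullback.fst (f ∣_ V) g' ≫ (f ⁻¹ᵁ V).ι) (pullback.snd (f ∣_ V) g')
        f (g' ≫ V.ι) :=
      (IsPullback.of_hasPullback (f ∣_ V) g').paste_horiz (isPullback_morphismRestrict f V).flip
    obtain ⟨m, hm⟩ := isPullback_of_factor f g (g' ≫ V.ι) (pullback.fst g V.ι) pullback.condition
    haveI : IsAffineHom (pullback.snd f (g' ≫ V.ι)) :=
      MorphismProperty.of_isPullback hm inferInstance
    rw [← h1.isoPullback_hom_snd]
    infer_instance
  exact isAffine_of_baseChange (f ∣_ V) g'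

end Groth.Agent.H06UOSect
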