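import Groth.Agent.H15Site.UnivOpen.Scheme
import Groth.Agent.H7Flat.AICCover
import Groth.Agent.H7Flat.AICRing
import Groth.Agent.H7Flat.LocalSection
import Groth.Agent.H7Lim.Approx.IntegralSystem
import Groth.Agent.H17.Spreading

/-! Sections of universally open morphisms after a finite surjective base change (EGA IV 14.5.4). -/

set_option autoImplicit false
set_option backward.isDefEq.respectTransparency false
set_option linter.style.haveILetI false
universe u
open CategoryTheory CategoryTheory.Limits AlgebraicGeometry TopologicalSpace Opposite Polynomial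

namespace Groth.Agent.H06UOSect

open H7Flat (HasMonicRoots)

theorem exists_root_split {R : Type u} [CommRing R] [IsDomain R] (h : HasMonicRoots R)
    {B : Type u} [CommRing B] [IsDomain B] [Algebra R B] :
    ∀ (n : ℕ) (P : R[X]), P.natDegree = n → P.Monic → ∀ b : B, aeval b P = 0 →
      ∃ r : R, algebraMap R B r = b := by
  intro n
  induction n with
  | zero =>
    intro P hn hP b hb
    rw [hP.natDegree_eq_zero.1 hn] at hb
    simp at hb
  | succ n ih =>
    intro P hn hP b hb
    obtain ⟨r, hr⟩ := h P hP (by omega)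
    obtain ⟨Q, hQ⟩ := dvd_iff_isRoot.2 (show P.IsRoot r from hr)
    have hQm : Q.Monic := (monic_X_sub_C r).of_mul_monic_left (hQ ▸ hP)
    have hQn : Q.natDegree = n := by
      rw [hQ, (monic_X_sub_C r).natDegree_mul hQm, natDegree_X_sub_C] at hn
      omega
    rw [hQ, map_mul, mul_eq_zero] at hb
    rcases hb with hb | hb
    · exact ⟨r, (sub_eq_zero.1 (by simpa using hb)).symm⟩
    · exact ih Q hQn hQm b hb

/-- Finite surjective covers of absolutely integrally closed domains have sections. -/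
theorem exists_section_of_finite {R : Type u} [CommRing R] [IsDomain R] (h : HasMonicRoots R)
    {B : Type u} [CommRing B] [Algebra R B] [Algebra.IsIntegral R B]
    (hs : Function.Surjective (PrimeSpectrum.comap (algebraMap R B))) : Nonempty (B →ₐ[R] R) := by
  obtain ⟨q, hq⟩ := hs ⟨⊥, Ideal.isPrime_bot⟩
  have hinj : Function.Injective (algebraMap R (B ⧸ q.asIdeal)) := by
    rw [injective_iff_map_eq_zero]
    intro r hr
    rw [IsScalarTower.algebraMap_apply R B (B ⧸ q.asIdeal), Ideal.Quotient.algebraMap_eq,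
      Ideal.Quotient.eq_zero_iff_mem] at hr
    exact (congrArg PrimeSpectrum.asIdeal hq).le hr
  haveI : Algebra.IsIntegral R (B ⧸ q.asIdeal) :=
    Algebra.IsIntegral.of_surjective (Ideal.Quotient.mkₐ R q.asIdeal) Ideal.Quotient.mk_surjective
  have hsurj : Function.Surjective (algebraMap R (B ⧸ q.asIdeal)) := fun b => by
    obtain ⟨P, hP, hb⟩ := Algebra.IsIntegral.isIntegral (R := R) b
    exact exists_root_split h _ P rfl hP b hb
  exact ⟨(AlgEquiv.ofBijective (Algebra.ofId R (B ⧸ q.asIdeal)) ⟨hinj, hsurj⟩).symm.toAlgHom.comp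
    (Ideal.Quotient.mkₐ R q.asIdeal)⟩

variable {X Y : Scheme.{u}} (f : X ⟶ Y) [UniversallyOpen f] [LocallyOfFinitePresentation f]
  [Surjective f] [IsLocallyNoetherian Y]

theorem exists_point_section (R : CommRingCat.{u}) [IsDomain R] [IsLocalRing R]
    (hR : HasMonicRoots R) (q : Spec R ⟶ Y) : ∃ m : Spec R ⟶ X, m ≫ f = q := by
  haveI := hR.isIntegrallyClosed
  haveI := hR.isAlgClosed_fractionRing
  obtain ⟨V, T, e, π, h, he, ⟨v, hv⟩, hπ, hπs, hh⟩ :=
    H15Site.UnivOpen.exists_quasiSection f (q (IsLocalRing.closedPoint R))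
  haveI := he; haveI := hπ; haveI := hπs
  obtain ⟨w, hw, -⟩ := Scheme.Pullback.exists_preimage_pullback (f := q) (g := e)
    (IsLocalRing.closedPoint R) v hv.symm
  obtain ⟨_, ⟨W, hW, rfl⟩, hwW, -⟩ :=
    (pullback q e).isBasis_affineOpens.exists_subset_of_mem_open (Set.mem_univ w) isOpen_univ
  let k := hW.fromSpec ≫ pullback.fst q e
  obtain ⟨φ, hφ⟩ := Spec.map_surjective k
  haveI : Flat (Spec.map φ) := by rw [hφ]; infer_instance
  haveI : LocallyOfFiniteType (Spec.map φ) := by rw [hφ]; infer_instance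
  letI := φ.hom.toAlgebra
  haveI : Module.Flat R Γ(pullback q e, W) := Flat.SpecMap_iff.1 inferInstance
  haveI : Algebra.FiniteType R Γ(pullback q e, W) :=
    (HasRingHomProperty.Spec_iff (P := @LocallyOfFiniteType)).1 inferInstance
  have hm : (IsLocalRing.maximalIdeal R).map (algebraMap R Γ(pullback q e, W)) ≠ ⊤ := by
    intro htop
    let P := hW.primeIdealOf ⟨w, hwW⟩
    have hP : Spec.map φ P = IsLocalRing.closedPoint R := by
      rw [hφ, Scheme.Hom.comp_apply, hW.fromSpec_primeIdealOf]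
      exact hw
    refine P.2.ne_top (top_le_iff.1 (htop ▸ Ideal.map_le_iff_le_comap.2 ?_))
    exact (congrArg PrimeSpectrum.asIdeal hP).ge
  obtain ⟨s⟩ := H7Flat.exists_section_of_flat R Γ(pullback q e, W) hm
  have hs : φ ≫ CommRingCat.ofHom s.toRingHom = 𝟙 R :=
    CommRingCat.hom_ext (RingHom.ext fun r => s.commutes r)
  let σ : Spec R ⟶ V := Spec.map (CommRingCat.ofHom s.toRingHom) ≫ hW.fromSpec ≫ pullback.snd q e
  have hσ : σ ≫ e = q := by
    simp only [σ, Category.assoc]
    rw [← pullback.condition, ← Category.assoc hW.fromSpec, show hW.fromSpec ≫ pullback.fst q e = _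
      from hφ.symm, ← Spec.map_comp_assoc, hs, Spec.map_id, Category.id_comp]
  -- the finite part
  haveI : IsFinite (pullback.fst σ π) := MorphismProperty.pullback_fst _ _ hπ
  haveI : Surjective (pullback.fst σ π) := MorphismProperty.pullback_fst _ _ hπs
  haveI : IsAffine (pullback σ π) := isAffine_of_isAffineHom (pullback.fst σ π)
  obtain ⟨φ', hφ'⟩ := Spec.map_surjective ((pullback σ π).isoSpec.inv ≫ pullback.fst σ π)
  haveI : IsFinite (Spec.map φ') := by rw [hφ']; infer_instance
  haveI hs2 : Surjective (Spec.map φ') := by rw [hφ']; infer_instance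
  letI := φ'.hom.toAlgebra
  haveI : Module.Finite R Γ(pullback σ π, ⊤) := (IsFinite.SpecMap_iff (f := φ')).1 inferInstance
  haveI : Algebra.IsIntegral R Γ(pullback σ π, ⊤) := Algebra.IsIntegral.of_finite R _
  obtain ⟨s'⟩ := exists_section_of_finite hR (B := Γ(pullback σ π, ⊤)) hs2.surj
  have hs' : φ' ≫ CommRingCat.ofHom s'.toRingHom = 𝟙 R :=
    CommRingCat.hom_ext (RingHom.ext fun r => s'.commutes r)
  refine ⟨Spec.map (CommRingCat.ofHom s'.toRingHom) ≫ (pullback σ π).isoSpec.inv ≫
    pullback.snd σ π ≫ h, ?_⟩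
  simp only [Category.assoc]
  rw [hh, ← pullback.condition_assoc, ← reassoc_of% hφ', ← Spec.map_comp_assoc, hs', Spec.map_id,
    Category.id_comp, hσ]

theorem exists_local_section_spec (R : CommRingCat.{u}) (sX : Spec R ⟶ Y) (P : Spec R)
    (hdom : IsDomain (Localization.AtPrime P.asIdeal)) (hroots : HasMonicRoots R) :
    ∃ W : (Spec R).Opens, P ∈ W ∧ ∃ g : W.toScheme ⟶ X, g ≫ f = W.ι ≫ sX := by
  letI : Algebra R ((Spec R).presheaf.stalk P) := StructureSheaf.stalkAlgebra R P
  haveI hloc : IsLocalization.AtPrime ((Spec R).presheaf.stalk P) P.asIdeal :=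
    StructureSheaf.IsLocalization.to_stalk _ P
  haveI := hdom
  haveI : IsDomain ((Spec R).presheaf.stalk P) :=
    (IsLocalization.algEquiv P.asIdeal.primeCompl ((Spec R).presheaf.stalk P)
      (Localization.AtPrime P.asIdeal)).toMulEquiv.isDomain _
  have hR : HasMonicRoots ((Spec R).presheaf.stalk P) :=
    hroots.of_isLocalization P.asIdeal.primeCompl _
  obtain ⟨m, hm⟩ := exists_point_section f ((Spec R).presheaf.stalk P) hR
    ((Spec R).fromSpecStalk P ≫ sX)
  let x := m (IsLocalRing.closedPoint ((Spec R).presheaf.stalk P))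
  have he : sX P = f x := by
    show sX P = (m ≫ f) (IsLocalRing.closedPoint ((Spec R).presheaf.stalk P))
    rw [hm]
    exact congrArg sX (Scheme.fromSpecStalk_closedPoint).symm
  obtain ⟨W, hPW, g, -, hg⟩ := H17.spread_out sX f he (Scheme.stalkClosedPointTo m) (by
    apply Spec.map_injective
    rw [← cancel_mono (Y.fromSpecStalk _), Spec.map_comp, Spec.map_comp, Category.assoc,
      Category.assoc, Scheme.SpecMap_stalkMap_fromSpecStalk,
      Scheme.Spec_stalkClosedPointTo_fromSpecStalk_assoc, hm,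
      Scheme.SpecMap_stalkSpecializes_fromSpecStalk, Scheme.SpecMap_stalkMap_fromSpecStalk])
  exact ⟨W, hPW, g, hg⟩

theorem exists_local_section_aic (t : H7Flat.aicScheme Y) :
    ∃ (U : (H7Flat.aicScheme Y).Opens), t ∈ U ∧
      ∃ g : U.toScheme ⟶ X, g ≫ f = U.ι ≫ H7Flat.aicProj Y := by
  obtain ⟨U, hU, hxU, -⟩ := exists_isAffineOpen_mem_and_subset
    (x := H7Flat.aicProj Y t) (U := (⊤ : Y.Opens)) trivial
  have ht : t ∈ (H7Flat.aicChart Y ⟨U, hU⟩).opensRange := by
    rw [← H7Flat.aicProj_preimage]; exact hxU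
  obtain ⟨P, rfl⟩ := ht
  let c := H7Flat.aicChart Y ⟨U, hU⟩
  obtain ⟨W, hPW, g, hg⟩ := exists_local_section_spec f _ (c ≫ H7Flat.aicProj Y) P
    (H7Flat.aicRing_atPrime _ P.asIdeal).1 (H7Flat.hasMonicRoots_aicRing _)
  refine ⟨c ''ᵁ W, ⟨P, hPW, rfl⟩, (c.isoImage W).inv ≫ g, ?_⟩
  rw [Category.assoc, hg]
  simp [c]

end Groth.Agent.H06UOSect
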